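import Cfsg.Agent.Spor.Chk

set_option autoImplicit false
set_option maxRecDepth 100000000
set_option Elab.async false
noncomputable section

namespace Cfsg.Agent.Spor.S16

def m0_0 : Nat := nat_lit 0x200
def m0_1 : Nat := nat_lit 0x330
def m0_2 : Nat := nat_lit 0x1004
def m0_3 : Nat := nat_lit 0x200
def n0 : Net := Net.cons 4 m0_0 (Net.cons 2 m0_1 (Net.cons 1 m0_2 (Net.cons 4 m0_3 (Net.nil))))

def m1_0 : Nat := nat_lit 0x42
def m1_1 : Nat := nat_lit 0x406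
def m1_2 : Nat := nat_lit 0x1312
def m1_3 : Nat := nat_lit 0x4510
def m1_4 : Nat := nat_lit 0x1010
def m1_5 : Nat := nat_lit 0x2
def m1_6 : Nat := nat_lit 0x4
def n1 : Net := Net.cons 8 m1_0 (Net.cons 4 m1_1 (Net.cons 2 m1_2 (Net.cons 1 m1_3 (Net.cons 2 m1_4 (Net.cons 4 m1_5 (Net.cons 8 m1_6 (Net.nil)))))))

def m2_0 : Nat := nat_lit 0xb00
def m2_1 : Nat := nat_lit 0x120
def m2_2 : Nat := nat_lit 0x4401
def m2_3 : Nat := nat_lit 0x1000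
def m2_4 : Nat := nat_lit 0x400
def n2 : Net := Net.cons 4 m2_0 (Net.cons 2 m2_1 (Net.cons 1 m2_2 (Net.cons 2 m2_3 (Net.cons 4 m2_4 (Net.nil)))))

def m3_0 : Nat := nat_lit 0x81
def m3_1 : Nat := nat_lit 0x406
def m3_2 : Nat := nat_lit 0x210
def m3_3 : Nat := nat_lit 0x5005
def m3_4 : Nat := nat_lit 0x406
def m3_5 : Nat := nat_lit 0x81
def n3 : Net := Net.cons 8 m3_0 (Net.cons 4 m3_1 (Net.cons 2 m3_2 (Net.cons 1 m3_3 (Net.cons 4 m3_4 (Net.cons 8 m3_5 (Net.nil))))))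

def ip1 : List Nat := [0xf088, 0xa552, 0x6802]
def l1 : Let := ⟨0, false, 0xffff, 0x1088, [0xd088, 0x2d50, 0xc002]⟩

def ip2 : List Nat := [0xeaa4, 0x2090]
def l2 : Let := ⟨1, false, 0xffff, 0xca24, [0xeab4, 0x90, 0x2000]⟩

def ip3 : List Nat := [0x608e, 0x5d7c, 0xc0a0]
def l3 : Let := ⟨2, false, 0xffff, 0x2002, [0x2552, 0x5b4, 0xd848]⟩

def ip4 : List Nat := [0x8552, 0xb002, 0x4a00]
def l4 : Let := ⟨3, false, 0xffff, 0x550, [0xb550, 0x3a02, 0xc000]⟩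

def NT : List Net := [n0, n1, n2, n3]
def LT : List Let := [⟨0, false, 0, 0, []⟩, l1, l2, l3, l4]
def T : Tab := ⟨NT, LT⟩
def EX : List (List Nat) := [[], [0], [2], [4], [6]]
def RL : List (List Nat) := [[6, 0, 6, 0], [6, 2, 6, 2, 6, 2], [2, 6, 2, 0, 2, 0, 2, 0, 2, 0, 2, 6, 2, 0, 2, 0, 2, 0, 2, 0], [6, 4, 6, 4], [2, 0, 2, 0, 2, 4, 2, 0, 2, 4, 0, 2, 0, 2, 4], [2, 4, 2, 4, 2, 4], [0, 2, 6, 2, 0, 2, 0, 6, 4, 2, 0, 6, 2, 4, 0, 2, 6, 2, 0, 2, 4]]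
def XL : List (List Nat) := []
def BW : List (List Nat) := [[0], [2], [6]]
def IV : Nat := 0x403020100
def L : List Nat := [1, 2, 3, 4]
def gs : List Nat := [1, 2, 3, 4]
def base : List Nat := [1, 2, 4]

end Cfsg.Agent.Spor.S16
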